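import Groth.Prelude.Def_Omega3
import Mathlib.RingTheory.Kaehler.Basic
import Mathlib.RingTheory.Unramified.Basic
import Mathlib.Algebra.TrivSqZeroExt.Basic
import Mathlib.LinearAlgebra.TensorProduct.Tower
import Mathlib.RingTheory.Nakayama

set_option autoImplicit false
universe u

open TensorProduct TrivSqZeroExt

namespace Groth.Agent.UnivTh94

variable {R A B B' : Type u} [CommRing R] [CommRing A] [CommRing B] [CommRing B'] [Algebra R A] [Algebra R B']
  [Algebra A B] [Algebra A B'] [Algebra B' B] [IsScalarTower A B' B] [IsScalarTower R A B']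

theorem ext_of_univ (h : OmegaSh.IsUnivThickeningRing A B B' (IsScalarTower.toAlgHom A B' B))
    {C : Type u} [CommRing C] (I : Ideal C) (hI : I ^ 2 = ⊥) (f g : B' →+* C)
    (hA : f.comp (algebraMap A B') = g.comp (algebraMap A B'))
    (hker : ∀ b ∈ RingHom.ker (algebraMap B' B), f b ∈ I)
    (hfg : ∀ b, f b - g b ∈ I) : f = g := by
  letI : Algebra A C := (f.comp (algebraMap A B')).toAlgebra
  let f' : B' →ₐ[A] C := { f with commutes' := fun a => rfl }
  let g' : B' →ₐ[A] C := { g with commutes' := fun a => (RingHom.congr_fun hA a).symm }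
  let π := IsScalarTower.toAlgHom A B' B
  let e : (B' ⧸ RingHom.ker π) ≃ₐ[A] B := Ideal.quotientKerAlgEquivOfSurjective h.1
  let L : (B' ⧸ RingHom.ker π) →ₐ[A] C ⧸ I := Ideal.Quotient.liftₐ (RingHom.ker π) ((Ideal.Quotient.mkₐ A I).comp f')
    (fun b hb => Ideal.Quotient.eq_zero_iff_mem.2 (hker b hb))
  let a : B →ₐ[A] C ⧸ I := L.comp e.symm.toAlgHom
  have ha : ∀ b, a (π b) = Ideal.Quotient.mk I (f b) := fun b => by
    show L (e.symm (π b)) = _
    rw [Ideal.quotientKerAlgEquivOfSurjective_symm_apply h.1 b]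
    rfl
  have h1 : f' = g' := (h.2.2 C I hI a).unique (AlgHom.ext fun b => (ha b).symm)
    (AlgHom.ext fun b => by
      show Ideal.Quotient.mk I (g b) = a (π b)
      rw [ha, eq_comm, Ideal.Quotient.eq]
      exact hfg b)
  exact RingHom.ext fun b => AlgHom.congr_fun h1 b

theorem exists_of_univ (h : OmegaSh.IsUnivThickeningRing A B B' (IsScalarTower.toAlgHom A B' B))
    {C : Type u} [CommRing C] (I : Ideal C) (hI : I ^ 2 = ⊥) (ι : A →+* C) (χ : B' →+* C ⧸ I)
    (hA : χ.comp (algebraMap A B') = (Ideal.Quotient.mk I).comp ι)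
    (hker : RingHom.ker (algebraMap B' B) ≤ RingHom.ker χ) :
    ∃ F : B' →+* C, F.comp (algebraMap A B') = ι ∧ (Ideal.Quotient.mk I).comp F = χ := by
  letI : Algebra A C := ι.toAlgebra
  let χ' : B' →ₐ[A] C ⧸ I := { χ with commutes' := fun a => RingHom.congr_fun hA a }
  let π := IsScalarTower.toAlgHom A B' B
  let e : (B' ⧸ RingHom.ker π) ≃ₐ[A] B := Ideal.quotientKerAlgEquivOfSurjective h.1
  let L : (B' ⧸ RingHom.ker π) →ₐ[A] C ⧸ I := Ideal.Quotient.liftₐ (RingHom.ker π) χ' (fun b hb => hker hb)
  let a : B →ₐ[A] C ⧸ I := L.comp e.symm.toAlgHom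
  obtain ⟨F, hF, -⟩ := h.2.2 C I hI a
  refine ⟨F.toRingHom, RingHom.ext fun x => F.commutes x, RingHom.ext fun b => ?_⟩
  refine (AlgHom.congr_fun hF b).trans ?_
  show L (e.symm (π b)) = _
  rw [Ideal.quotientKerAlgEquivOfSurjective_symm_apply h.1 b]
  rfl

section Ext

variable {M : Type u} [AddCommGroup M] [Module B' M] [Module B'ᵐᵒᵖ M] [IsCentralScalar B' M]

/-- The ideal of elements whose first component lies in `K`. -/
def fstIdeal (K : Ideal B') : Ideal (TrivSqZeroExt B' M) := K.comap (fstHom B' B' M).toRingHom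

theorem fstIdeal_sq (K : Ideal B') (hK : K ^ 2 = ⊥) (hM : ∀ k ∈ K, ∀ m : M, k • m = 0) :
    (fstIdeal K : Ideal (TrivSqZeroExt B' M)) ^ 2 = ⊥ := by
  rw [pow_two, ← le_bot_iff, Ideal.mul_le]
  intro x hx y hy
  rw [Ideal.mem_bot]
  refine TrivSqZeroExt.ext ?_ ?_
  · have h2 : x.fst * y.fst ∈ K ^ 2 := by rw [pow_two]; exact Ideal.mul_mem_mul hx hy
    rw [hK, Ideal.mem_bot] at h2
    rw [fst_mul, fst_zero, h2]
  · rw [snd_mul, snd_zero, op_smul_eq_smul, hM x.fst hx, hM y.fst hy, add_zero]

/-- A derivation gives a section of the trivial extension. -/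
def derivHom [Module R M] (D : Derivation R B' M) : B' →+* TrivSqZeroExt B' M where
  toFun b := inl b + inr (D b)
  map_one' := by simp
  map_mul' a b := by
    refine TrivSqZeroExt.ext ?_ ?_
    · simp
    · simp [D.leibniz, op_smul_eq_smul, add_comm]
  map_zero' := by simp
  map_add' a b := by
    refine TrivSqZeroExt.ext ?_ ?_ <;> simp

end Ext

theorem formallyUnramified_of_univ (h : OmegaSh.IsUnivThickeningRing A B B' (IsScalarTower.toAlgHom A B' B)) :
    Algebra.FormallyUnramified A B' := by
  let K := RingHom.ker (algebraMap B' B)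
  have hK : K ^ 2 = ⊥ := h.2.1
  let M := Ω[B'⁄A] ⧸ (K • (⊤ : Submodule B' Ω[B'⁄A]))
  letI : Module B'ᵐᵒᵖ M := Module.compHom M ((RingHom.id B').fromOpposite fun x y => mul_comm _ _)
  haveI : IsCentralScalar B' M := ⟨fun _ _ => rfl⟩
  have hM : ∀ k ∈ K, ∀ m : M, k • m = 0 := by
    intro k hk m
    obtain ⟨x, rfl⟩ := Submodule.Quotient.mk_surjective _ m
    rw [← Submodule.Quotient.mk_smul, Submodule.Quotient.mk_eq_zero]
    exact Submodule.smul_mem_smul hk trivial
  let D : Derivation A B' M := (K • (⊤ : Submodule B' Ω[B'⁄A])).mkQ.compDer (KaehlerDifferential.D A B')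
  have he := ext_of_univ h (fstIdeal (M := M) K) (fstIdeal_sq K hK hM) (inlHom B' M) (derivHom D)
    (RingHom.ext fun a => TrivSqZeroExt.ext (by simp [derivHom]) (by simp [derivHom, D.map_algebraMap]))
    (fun b hb => by simpa [fstIdeal, K] using hb) (fun b => by simp [fstIdeal, derivHom])
  have hD : ∀ b, D b = 0 := fun b => by
    have := congrArg TrivSqZeroExt.snd (RingHom.congr_fun he b)
    simpa [derivHom] using this.symm
  have htop : (⊤ : Submodule B' Ω[B'⁄A]) ≤ K • ⊤ := by
    rw [← KaehlerDifferential.span_range_derivation A B', Submodule.span_le]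
    rintro _ ⟨b, rfl⟩
    rw [KaehlerDifferential.span_range_derivation]
    exact (Submodule.Quotient.mk_eq_zero (K • (⊤ : Submodule B' Ω[B'⁄A]))).1 (hD b)
  have hbot : (⊤ : Submodule B' Ω[B'⁄A]) ≤ ⊥ := by
    refine htop.trans ((Submodule.smul_mono le_rfl htop).trans ?_)
    rw [← Submodule.mul_smul, ← pow_two, hK, Submodule.bot_smul]
  refine ⟨⟨fun x y => ?_⟩⟩
  rw [(Submodule.mem_bot B').1 (hbot (Submodule.mem_top (x := x))), (Submodule.mem_bot B').1 (hbot (Submodule.mem_top (x := y)))]

theorem bijective_baseChange_of_univ (h : OmegaSh.IsUnivThickeningRing A B B' (IsScalarTower.toAlgHom A B' B)) :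
    Function.Bijective ((KaehlerDifferential.mapBaseChange R A B').baseChange B) := by
  haveI := formallyUnramified_of_univ h
  have hsurj : Function.Surjective (KaehlerDifferential.mapBaseChange R A B') := by
    intro x
    exact (KaehlerDifferential.exact_mapBaseChange_map R A B' x).1 (Subsingleton.elim _ _)
  refine ⟨?_, by rw [LinearMap.baseChange_eq_ltensor]; exact LinearMap.lTensor_surjective B hsurj⟩
  let K := RingHom.ker (algebraMap B' B)
  have hK : K ^ 2 = ⊥ := h.2.1
  letI : Algebra R B := ((algebraMap A B).comp (algebraMap R A)).toAlgebra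
  haveI : IsScalarTower R A B := IsScalarTower.of_algebraMap_eq fun _ => rfl
  haveI : IsScalarTower R B' B := IsScalarTower.of_algebraMap_eq fun x => by
    rw [IsScalarTower.algebraMap_apply R A B', ← IsScalarTower.algebraMap_apply A B' B]; rfl
  let M := B ⊗[A] Ω[A⁄R]
  letI : Module B'ᵐᵒᵖ M := Module.compHom M ((RingHom.id B').fromOpposite fun x y => mul_comm _ _)
  haveI : IsCentralScalar B' M := ⟨fun _ _ => rfl⟩
  have hM : ∀ k ∈ K, ∀ m : M, k • m = 0 := fun k hk m => by
    rw [← algebraMap_smul B k m, RingHom.mem_ker.1 hk, zero_smul]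
  let dM : Derivation R A M := ((TensorProduct.mk A B Ω[A⁄R]) 1).compDer (KaehlerDifferential.D R A)
  let ι : A →+* TrivSqZeroExt B' M :=
    { toFun := fun a => inl (algebraMap A B' a) + inr (dM a)
      map_one' := by simp
      map_mul' := fun a b => by
        refine TrivSqZeroExt.ext ?_ ?_
        · simp
        · simp [dM.leibniz, op_smul_eq_smul, add_comm]
      map_zero' := by simp
      map_add' := fun a b => by
        refine TrivSqZeroExt.ext ?_ ?_ <;> simp only [fst_add, snd_add, fst_inl, snd_inl, fst_inr, snd_inr, map_add, zero_add, add_zero] }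
  let I : Ideal (TrivSqZeroExt B' M) := fstIdeal K
  have hI : I ^ 2 = ⊥ := fstIdeal_sq K hK hM
  obtain ⟨F, hFA, hF⟩ := exists_of_univ h I hI ι ((Ideal.Quotient.mk I).comp (inlHom B' M))
    (RingHom.ext fun a => Ideal.Quotient.eq.2 (by simp [I, fstIdeal, ι]))
    (fun b hb => Ideal.Quotient.eq_zero_iff_mem.2 (by simpa [I, fstIdeal, K] using hb))
  have hfst : ((fstHom B' B' M).toRingHom.comp F) = RingHom.id B' := by
    refine ext_of_univ h K hK _ _ (RingHom.ext fun a => ?_) (fun b hb => ?_) (fun b => ?_)
    · have := RingHom.congr_fun hFA a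
      simp [RingHom.comp_apply] at this ⊢
      simp [this, ι]
    · have h1 : F b - inl b ∈ I := Ideal.Quotient.eq.1 (RingHom.congr_fun hF b)
      have h2 : (F b).fst - b ∈ K := by simpa [I, fstIdeal] using h1
      simpa using add_mem h2 hb
    · have h1 : F b - inl b ∈ I := Ideal.Quotient.eq.1 (RingHom.congr_fun hF b)
      simpa [I, fstIdeal] using h1
  have hfst' : ∀ b, (F b).fst = b := fun b => RingHom.congr_fun hfst b
  let D : Derivation R B' M := Derivation.mk'
    { toFun := fun b => (F b).snd
      map_add' := fun a b => by simp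
      map_smul' := fun r b => by
        have h0 : F (algebraMap R B' r) = inl (algebraMap R B' r) := by
          rw [IsScalarTower.algebraMap_apply R A B', show F (algebraMap A B' _) = ι _ from RingHom.congr_fun hFA _]
          simp [ι]
        rw [Algebra.smul_def, map_mul, h0, RingHom.id_apply]
        simp }
    (fun a b => by simp [hfst', op_smul_eq_smul, add_comm])
  let ℓ : B ⊗[B'] Ω[B'⁄R] →ₗ[B] M := D.liftKaehlerDifferential.liftBaseChange B
  have key : ℓ ∘ₗ (KaehlerDifferential.mapBaseChange R A B').baseChange B =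
      (TensorProduct.AlgebraTensorModule.cancelBaseChange A B' B B Ω[A⁄R]).toLinearMap := by
    refine TensorProduct.AlgebraTensorModule.curry_injective (LinearMap.ext_ring (LinearMap.ext fun t => ?_))
    show ℓ (1 ⊗ₜ KaehlerDifferential.mapBaseChange R A B' t) =
      TensorProduct.AlgebraTensorModule.cancelBaseChange A B' B B Ω[A⁄R] (1 ⊗ₜ t)
    rw [LinearMap.liftBaseChange_tmul, one_smul]
    induction t with
    | zero => simp
    | add x y hx hy => simp only [map_add, TensorProduct.tmul_add, hx, hy]
    | tmul b w =>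
      rw [TensorProduct.AlgebraTensorModule.cancelBaseChange_tmul, KaehlerDifferential.mapBaseChange_tmul, map_smul]
      have : ∀ w : Ω[A⁄R], D.liftKaehlerDifferential (KaehlerDifferential.map R R A B' w) = (1 : B) ⊗ₜ w := by
        intro w
        have hw : w ∈ Submodule.span A (Set.range (KaehlerDifferential.D R A)) := by
          rw [KaehlerDifferential.span_range_derivation]; trivial
        induction hw using Submodule.span_induction with
        | mem x hx =>
          obtain ⟨a, rfl⟩ := hx
          rw [KaehlerDifferential.map_D, Derivation.liftKaehlerDifferential_comp_D]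
          show (F (algebraMap A B' a)).snd = _
          rw [show F (algebraMap A B' a) = ι a from RingHom.congr_fun hFA a]
          simp [ι, dM]
        | zero => simp
        | add x y _ _ hx hy => rw [map_add, map_add, hx, hy, TensorProduct.tmul_add]
        | smul a x _ hx =>
          rw [map_smul, ← algebraMap_smul B' a, map_smul, algebraMap_smul, hx, TensorProduct.tmul_smul]
      rw [this, TensorProduct.smul_tmul', Algebra.smul_def, mul_one]
  intro x y hxy
  refine (TensorProduct.AlgebraTensorModule.cancelBaseChange A B' B B Ω[A⁄R]).injective ?_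
  have hx := LinearMap.congr_fun key x
  have hy := LinearMap.congr_fun key y
  simp only [LinearMap.comp_apply, LinearEquiv.coe_coe] at hx hy
  rw [← hx, ← hy, hxy]

end Groth.Agent.UnivTh94
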