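import Mathlib.RingTheory.Unramified.Basic
import Mathlib.RingTheory.MvPolynomial.Basic
import Mathlib.Algebra.MvPolynomial.Derivation
import Mathlib.RingTheory.Ideal.Quotient.Operations
import Mathlib.RingTheory.Kaehler.Basic

/-! The universal first order thickening of a formally unramified algebra. -/

set_option autoImplicit false
universe u

open MvPolynomial

namespace Groth.Agent.UnivTh94

variable (R S : Type u) [CommRing R] [CommRing S] [Algebra R S]

/-- evaluation of the tautological presentation -/
noncomputable abbrev ev : MvPolynomial S R →ₐ[R] S := aeval id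

theorem ev_surjective : Function.Surjective (ev R S) := fun s => ⟨X s, aeval_X _ s⟩

/-- free module with action through evaluation -/
noncomputable local instance polyModule : Module (MvPolynomial S R) (S →₀ S) :=
  Module.compHom _ (ev R S).toRingHom

local instance polyTower : IsScalarTower R (MvPolynomial S R) (S →₀ S) :=
  IsScalarTower.of_algebraMap_smul fun r v => by
    show ev R S (algebraMap R (MvPolynomial S R) r) • v = r • v
    rw [AlgHom.commutes, algebraMap_smul]

/-- differential of a polynomial, with coefficients read in the algebra -/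
noncomputable def D0 : Derivation R (MvPolynomial S R) (S →₀ S) :=
  mkDerivation R fun s => Finsupp.single s (1 : S)

@[simp] theorem D0_X (s : S) : D0 R S (X s) = Finsupp.single s 1 := mkDerivation_X R _ s

theorem D0_mul (p q : MvPolynomial S R) : D0 R S (p * q) = ev R S p • D0 R S q + ev R S q • D0 R S p :=
  (D0 R S).leibniz p q

variable [Algebra.FormallyUnramified R S]

theorem exists_relation (s : S) : ∃ j : MvPolynomial S R, ev R S j = 0 ∧ D0 R S j = Finsupp.single s 1 := by
  let M : Submodule S (S →₀ S) :=
    { carrier := {v | ∃ j, ev R S j = 0 ∧ D0 R S j = v}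
      add_mem' := by
        rintro _ _ ⟨a, ha, rfl⟩ ⟨b, hb, rfl⟩
        exact ⟨a + b, by rw [map_add, ha, hb, add_zero], map_add (D0 R S) a b⟩
      zero_mem' := ⟨0, map_zero _, map_zero (D0 R S)⟩
      smul_mem' := by
        rintro c _ ⟨a, ha, rfl⟩
        obtain ⟨p, rfl⟩ := ev_surjective R S c
        exact ⟨p * a, by rw [map_mul, ha, mul_zero], by rw [D0_mul, ha, zero_smul, add_zero]⟩ }
  have hwd : ∀ p q : MvPolynomial S R, ev R S p = ev R S q →
      (Submodule.Quotient.mk (D0 R S p) : (S →₀ S) ⧸ M) = Submodule.Quotient.mk (D0 R S q) := fun p q h =>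
    (Submodule.Quotient.eq M).2 ⟨p - q, by rw [map_sub, h, sub_self], map_sub (D0 R S) p q⟩
  choose lf hlf using ev_surjective R S
  let D : Derivation R S ((S →₀ S) ⧸ M) := Derivation.mk'
    { toFun := fun c => Submodule.Quotient.mk (D0 R S (lf c))
      map_add' := fun a b => by
        rw [← Submodule.Quotient.mk_add, ← map_add]
        exact hwd _ _ (by rw [map_add, hlf, hlf, hlf])
      map_smul' := fun r a => by
        rw [RingHom.id_apply, ← Submodule.Quotient.mk_smul, ← (D0 R S).map_smul]
        exact hwd _ _ (by rw [map_smul, hlf, hlf]) }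
    (fun a b => by
      show (Submodule.Quotient.mk (D0 R S (lf (a * b))) : (S →₀ S) ⧸ M) =
        a • Submodule.Quotient.mk (D0 R S (lf b)) + b • Submodule.Quotient.mk (D0 R S (lf a))
      rw [hwd (lf (a * b)) (lf a * lf b) (by rw [map_mul, hlf, hlf, hlf]), D0_mul, hlf, hlf,
        Submodule.Quotient.mk_add, Submodule.Quotient.mk_smul, Submodule.Quotient.mk_smul])
  have hD : D s = 0 := by
    rw [← D.liftKaehlerDifferential_comp_D s,
      Subsingleton.elim (KaehlerDifferential.D R S s) 0, map_zero]
  have : (Submodule.Quotient.mk (D0 R S (X s)) : (S →₀ S) ⧸ M) = 0 :=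
    (hwd (X s) (lf s) (by rw [hlf, aeval_X]; rfl)).trans hD
  rw [D0_X, Submodule.Quotient.mk_eq_zero] at this
  exact this

/-- a chosen relation with differential `dX_s` -/
noncomputable def rel (s : S) : MvPolynomial S R := (exists_relation R S s).choose

theorem ev_rel (s : S) : ev R S (rel R S s) = 0 := (exists_relation R S s).choose_spec.1
theorem D0_rel (s : S) : D0 R S (rel R S s) = Finsupp.single s 1 := (exists_relation R S s).choose_spec.2

/-- the ideal of the universal thickening in the polynomial ring -/
noncomputable def thickIdeal : Ideal (MvPolynomial S R) :=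
  RingHom.ker (ev R S).toRingHom ^ 2 ⊔ Ideal.span (Set.range (rel R S))

theorem thickIdeal_le : thickIdeal R S ≤ RingHom.ker (ev R S).toRingHom :=
  sup_le (Ideal.pow_le_self two_ne_zero) (Ideal.span_le.2 (Set.range_subset_iff.2 (ev_rel R S)))

/-- the universal thickening -/
abbrev Thick : Type u := MvPolynomial S R ⧸ thickIdeal R S

/-- projection of the universal thickening -/
noncomputable def proj : Thick R S →ₐ[R] S :=
  Ideal.Quotient.liftₐ _ (ev R S) fun p hp => thickIdeal_le R S hp

theorem proj_mk (p : MvPolynomial S R) : proj R S (Ideal.Quotient.mk _ p) = ev R S p := rfl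

theorem proj_surjective : Function.Surjective (proj R S) := fun s =>
  (ev_surjective R S s).elim fun p hp => ⟨Ideal.Quotient.mk _ p, hp⟩

theorem ker_proj_sq : RingHom.ker (proj R S).toRingHom ^ 2 = ⊥ := by
  have h : RingHom.ker (proj R S).toRingHom ≤ (RingHom.ker (ev R S).toRingHom).map (Ideal.Quotient.mk (thickIdeal R S)) := by
    intro x hx
    obtain ⟨p, rfl⟩ := Ideal.Quotient.mk_surjective x
    exact Ideal.mem_map_of_mem _ hx
  refine le_bot_iff.1 ((Ideal.pow_right_mono h 2).trans ?_)
  rw [← Ideal.map_pow, Ideal.map_le_iff_le_comap]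
  intro x hx
  rw [Ideal.mem_comap, Ideal.mem_bot, Ideal.Quotient.eq_zero_iff_mem]
  exact Ideal.mem_sup_left hx

variable {A : Type u} [CommRing A] [Algebra R A] (I : Ideal A) (hI : I ^ 2 = ⊥) (a : S →ₐ[R] A ⧸ I)

include hI in
omit [Algebra.FormallyUnramified R S] in
theorem mul_eq_of_sub_mem {x y i : A} (hxy : Ideal.Quotient.mk I x = Ideal.Quotient.mk I y) (hi : i ∈ I) :
    x * i = y * i := by
  have : (x - y) * i ∈ I ^ 2 := by
    rw [pow_two]; exact Ideal.mul_mem_mul (Ideal.Quotient.eq.1 hxy) hi
  rw [hI, Ideal.mem_bot, sub_mul, sub_eq_zero] at this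
  exact this

/-- a lift of `a` on generators -/
noncomputable def liftVal (c : S) : A := (Ideal.Quotient.mk_surjective (a c)).choose

omit [Algebra.FormallyUnramified R S] in
theorem mk_liftVal (c : S) : Ideal.Quotient.mk I (liftVal R S I a c) = a c :=
  (Ideal.Quotient.mk_surjective (a c)).choose_spec

omit [Algebra.FormallyUnramified R S] in
theorem mk_aeval (v : S → A) (hv : ∀ s, Ideal.Quotient.mk I (v s) = a s) (p : MvPolynomial S R) :
    Ideal.Quotient.mk I (aeval v p) = a (ev R S p) :=
  AlgHom.congr_fun (φ₁ := (Ideal.Quotient.mkₐ R I).comp (aeval v)) (φ₂ := a.comp (ev R S))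
    (MvPolynomial.algHom_ext fun s => by simp [hv s]) p

/-- pairing of differentials with a perturbation -/
noncomputable def pair (δ : S → I) : (S →₀ S) →+ A :=
  Finsupp.liftAddHom fun s =>
    { toFun := fun c => liftVal R S I a c * δ s
      map_zero' := by
        rw [mul_eq_of_sub_mem I hI (x := liftVal R S I a 0) (y := 0) (by rw [mk_liftVal, map_zero, map_zero]) (δ s).2, zero_mul]
      map_add' := fun c c' => by
        rw [← add_mul]
        exact mul_eq_of_sub_mem I hI (by rw [map_add, mk_liftVal, mk_liftVal, mk_liftVal, map_add]) (δ s).2 }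

omit [Algebra.FormallyUnramified R S] in
theorem pair_single (δ : S → I) (s c : S) : pair R S I hI a δ (Finsupp.single s c) = liftVal R S I a c * δ s :=
  Finsupp.liftAddHom_apply_single _ _ _

omit [Algebra.FormallyUnramified R S] in
theorem pair_smul (δ : S → I) (x : A) (c : S) (hx : Ideal.Quotient.mk I x = a c) (v : S →₀ S) :
    pair R S I hI a δ (c • v) = x * pair R S I hI a δ v := by
  induction v using Finsupp.induction_linear with
  | zero => simp
  | add f g hf hg => rw [smul_add, map_add, map_add, hf, hg, mul_add]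
  | single s d =>
    rw [Finsupp.smul_single, pair_single, pair_single, ← mul_assoc]
    exact mul_eq_of_sub_mem I hI (by rw [map_mul, mk_liftVal, mk_liftVal, hx, smul_eq_mul, map_mul]) (δ s).2

omit [Algebra.FormallyUnramified R S] in
theorem aeval_perturb (v : S → A) (hv : ∀ s, Ideal.Quotient.mk I (v s) = a s) (δ : S → I) (p : MvPolynomial S R) :
    aeval (fun s => v s + δ s) p = aeval v p + pair R S I hI a δ (D0 R S p) := by
  induction p using MvPolynomial.induction_on with
  | C r =>
    have : D0 R S (C r) = 0 := derivation_C _ r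
    rw [this, map_zero, aeval_C, aeval_C, add_zero]
  | add p q hp hq => rw [map_add, map_add, map_add, map_add, hp, hq]; ring
  | mul_X p t hp =>
    have e1 := pair_smul R S I hI a δ (aeval v p) (ev R S p) (mk_aeval R S I a v hv p) (Finsupp.single t 1)
    have e2 := pair_smul R S I hI a δ (v t) (ev R S (X t)) (by rw [hv t, aeval_X]; rfl) (D0 R S p)
    have e3 : pair R S I hI a δ (Finsupp.single t 1) = δ t := by
      rw [pair_single, mul_eq_of_sub_mem I hI (y := 1) (by rw [mk_liftVal, map_one, map_one]) (δ t).2, one_mul]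
    have hz : pair R S I hI a δ (D0 R S p) * (δ t : A) = 0 := by
      have hm : pair R S I hI a δ (D0 R S p) ∈ I := by
        induction D0 R S p using Finsupp.induction_linear with
        | zero => simp
        | add f g hf hg => rw [map_add]; exact add_mem hf hg
        | single s d => rw [pair_single]; exact I.mul_mem_left _ (δ s).2
      have := Ideal.mul_mem_mul hm (δ t).2
      rwa [← pow_two, hI, Ideal.mem_bot] at this
    rw [map_mul, map_mul, aeval_X, aeval_X, hp, D0_mul, D0_X, map_add, e1, e2, e3]
    linear_combination hz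

include hI in
theorem aeval_rel (v : S → A) (hv : ∀ s, Ideal.Quotient.mk I (v s) = a s) (δ : S → I) (s : S) :
    aeval (fun t => v t + δ t) (rel R S s) = aeval v (rel R S s) + δ s := by
  rw [aeval_perturb R S I hI a v hv, D0_rel, pair_single,
    mul_eq_of_sub_mem I hI (y := 1) (by rw [mk_liftVal, map_one, map_one]) (δ s).2, one_mul]

include hI in
theorem existsUnique_lift : ∃! a' : Thick R S →ₐ[R] A, (Ideal.Quotient.mkₐ R I).comp a' = a.comp (proj R S) := by
  let v : S → A := liftVal R S I a
  have hv : ∀ s, Ideal.Quotient.mk I (v s) = a s := mk_liftVal R S I a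
  have hrelI : ∀ s, aeval v (rel R S s) ∈ I := fun s => by
    rw [← Ideal.Quotient.eq_zero_iff_mem, mk_aeval R S I a v hv, ev_rel, map_zero]
  let δ : S → I := fun s => ⟨- aeval v (rel R S s), neg_mem (hrelI s)⟩
  let ψ : MvPolynomial S R →ₐ[R] A := aeval fun s => v s + δ s
  have hmkψ : ∀ p, Ideal.Quotient.mk I (ψ p) = a (ev R S p) := mk_aeval R S I a _ fun s => by
    rw [map_add, hv, Ideal.Quotient.eq_zero_iff_mem.2 (δ s).2, add_zero]
  have hkill : ∀ p ∈ thickIdeal R S, ψ p = 0 := by
    intro p hp
    have : thickIdeal R S ≤ RingHom.ker ψ.toRingHom := by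
      refine sup_le ?_ (Ideal.span_le.2 (Set.range_subset_iff.2 fun s => ?_))
      · have h1 : RingHom.ker (ev R S).toRingHom ≤ I.comap ψ.toRingHom := fun q hq => by
          rw [Ideal.mem_comap, ← Ideal.Quotient.eq_zero_iff_mem]
          exact (hmkψ q).trans (by rw [show ev R S q = 0 from hq, map_zero])
        refine (Ideal.pow_right_mono h1 2).trans ((Ideal.le_comap_pow _ _).trans ?_)
        rw [hI]
        exact le_rfl
      · show ψ (rel R S s) = 0
        rw [show ψ (rel R S s) = _ from aeval_rel R S I hI a v hv δ s]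
        exact add_neg_cancel _
    exact this hp
  refine ⟨Ideal.Quotient.liftₐ _ ψ hkill, AlgHom.ext fun x => ?_, fun b hb => ?_⟩
  · obtain ⟨p, rfl⟩ := Ideal.Quotient.mk_surjective x
    exact hmkψ p
  · refine Ideal.Quotient.algHom_ext R (MvPolynomial.algHom_ext fun s => ?_)
    let w : MvPolynomial S R →ₐ[R] A := b.comp (Ideal.Quotient.mkₐ R _)
    have hw : ∀ t, w (X t) - v t ∈ I := fun t => Ideal.Quotient.eq.1
      ((AlgHom.congr_fun hb (Ideal.Quotient.mk _ (X t))).trans (by rw [AlgHom.comp_apply, proj_mk, aeval_X, hv]; rfl))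
    let ε : S → I := fun t => ⟨w (X t) - v t, hw t⟩
    have hwe : w = aeval fun t => v t + ε t := MvPolynomial.algHom_ext fun t => by simp [ε]
    have h0 : w (rel R S s) = 0 := by
      show b (Ideal.Quotient.mk _ (rel R S s)) = 0
      have hmem : rel R S s ∈ thickIdeal R S := Ideal.mem_sup_right (Ideal.subset_span ⟨s, rfl⟩)
      rw [Ideal.Quotient.eq_zero_iff_mem.2 hmem, map_zero]
    rw [hwe, aeval_rel R S I hI a v hv ε s] at h0
    show w (X s) = ψ (X s)
    rw [show ψ (X s) = v s + δ s from aeval_X _ s]
    have : (ε s : A) = δ s := eq_neg_of_add_eq_zero_right h0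
    linear_combination this

end Groth.Agent.UnivTh94
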